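import Groth.Agent.HomColLib.Main

/-! # The length identity `length Hom(I, R/J) + length R/(I:J) = length R/J + length R/I` -/

set_option autoImplicit false
universe u

namespace HomColLib

open IsLocalRing

theorem main (R : Type u) [CommRing R] [IsRegularLocalRing R] (hdim : ringKrullDim R = 2) (I J : Ideal R)
    (hI : Module.length R (R ⧸ I) < ⊤) (hJ : Module.length R (R ⧸ J) < ⊤) :
    Module.length R (↥I →ₗ[R] (R ⧸ J)) + Module.length R (R ⧸ I.colon J) =
      Module.length R (R ⧸ J) + Module.length R (R ⧸ I) := by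
  classical
  haveI : IsDomain R := CommAlgDim.isDomain_of_isRegularLocalRing R
  obtain ⟨N1, hN1⟩ := exists_pow_le hI
  obtain ⟨N2, hN2⟩ := exists_pow_le hJ
  obtain ⟨a, b, haN, hbN, hab, hloc, hart, hsoc⟩ := exists_regular_pair hdim (N1 + N2)
  have haI : a ∈ I := hN1 (Ideal.pow_le_pow_right (Nat.le_add_right N1 N2) haN)
  have hbI : b ∈ I := hN1 (Ideal.pow_le_pow_right (Nat.le_add_right N1 N2) hbN)
  have haJ : a ∈ J := hN2 (Ideal.pow_le_pow_right (Nat.le_add_left N2 N1) haN)
  have hbJ : b ∈ J := hN2 (Ideal.pow_le_pow_right (Nat.le_add_left N2 N1) hbN)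
  set K := Ideal.span ({a, b} : Set R) with hKdef
  have hKJ : K ≤ J := Ideal.span_le.2 (by
    intro z hz; rcases hz with rfl | rfl
    exacts [haJ, hbJ])
  have hI0 : I ≠ ⊥ := by
    rintro rfl
    have h1 := hI
    rw [(Submodule.quotEquivOfEqBot (⊥ : Ideal R) rfl).length_eq] at h1
    haveI : IsArtinian R R := (isFiniteLength_iff_isNoetherian_isArtinian.1 (Module.length_ne_top_iff.1 h1.ne)).2
    haveI : Ring.KrullDimLE 0 R := isArtinianRing_iff_krullDimLE_zero.1 ‹_›
    have h0 := Ring.krullDimLE_iff.1 this
    rw [hdim] at h0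
    norm_num at h0
  obtain ⟨n, ε, φ, hε, hφ, hrange⟩ := exists_presentation hdim I hI0
  set A : Fin n → Fin (n + 1) → R := fun i j => φ (Pi.single i 1) j with hA
  let w : Fin (n + 1) → I := fun j => ε (Pi.single j 1)
  have hεapp : ∀ g : Fin (n + 1) → R, ε g = ∑ j, g j • w j := fun g => by
    conv_lhs => rw [pi_eq_sum_univ' g]
    simp only [map_sum, map_smul, w]
  -- step 1: `Hom(I, R/J)` is the kernel of the transposed matrix
  let ψ := mulMap A (R ⧸ J)
  let ev : (↥I →ₗ[R] R ⧸ J) →ₗ[R] (Fin (n + 1) → R ⧸ J) :=
    { toFun := fun h j => h (w j)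
      map_add' := fun _ _ => rfl
      map_smul' := fun _ _ => rfl }
  have hev : Function.Injective ev := by
    intro h h' e
    apply LinearMap.ext
    intro z
    obtain ⟨g, rfl⟩ := hε z
    rw [hεapp g, map_sum, map_sum]
    refine Finset.sum_congr rfl fun j _ => ?_
    rw [map_smul, map_smul, show h (w j) = h' (w j) from congrFun e j]
  have hεφ : ∀ v, ε (φ v) = 0 := fun v => by
    have : φ v ∈ LinearMap.ker ε := hrange ▸ LinearMap.mem_range_self φ v
    exact this
  have hevr : LinearMap.range ev = LinearMap.ker ψ := by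
    apply le_antisymm
    · rintro _ ⟨h, rfl⟩
      funext i
      have hz : ∑ j, A i j • w j = 0 := by rw [← hεφ (Pi.single i 1), hεapp]
      show ∑ j, A i j • h (w j) = 0
      rw [← map_zero h, ← hz, map_sum]
      simp only [map_smul]
    · intro g hg
      let G := Fintype.linearCombination R g
      have hG : LinearMap.ker ε ≤ LinearMap.ker G := by
        rw [← hrange]
        rintro _ ⟨v, rfl⟩
        show ∑ j, φ v j • g j = 0
        simp only [map_eq_sum φ v, Finset.sum_smul]
        rw [Finset.sum_comm]
        refine Finset.sum_eq_zero fun i _ => ?_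
        have hi : ∑ j, A i j • g j = 0 := congrFun hg i
        calc ∑ j, (φ (Pi.single i 1) j * v i) • g j = v i • ∑ j, A i j • g j := by
              rw [Finset.smul_sum]
              exact Finset.sum_congr rfl fun j _ => by rw [smul_smul, mul_comm]
          _ = 0 := by rw [hi, smul_zero]
      refine ⟨(LinearMap.ker ε).liftQ G hG ∘ₗ (ε.quotKerEquivOfSurjective hε).symm.toLinearMap, ?_⟩
      funext j
      show (LinearMap.ker ε).liftQ G hG ((ε.quotKerEquivOfSurjective hε).symm (ε (Pi.single j 1))) = g j
      have hsymm : (ε.quotKerEquivOfSurjective hε).symm (ε (Pi.single j 1)) =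
          Submodule.Quotient.mk (Pi.single j (1 : R)) := by
        rw [LinearEquiv.symm_apply_eq]; rfl
      rw [hsymm]
      show G (Pi.single j 1) = g j
      rw [Fintype.linearCombination_apply_single, one_smul]
  let C := (Fin n → R ⧸ J) ⧸ LinearMap.range ψ
  have hfinJ : IsFiniteLength R (R ⧸ J) := Module.length_ne_top_iff.1 hJ.ne
  haveI := (isFiniteLength_iff_isNoetherian_isArtinian.1 hfinJ).1
  haveI := (isFiniteLength_iff_isNoetherian_isArtinian.1 hfinJ).2
  have L1 : Module.length R (↥I →ₗ[R] R ⧸ J) = Module.length R (LinearMap.ker ψ) := by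
    rw [← hevr]
    exact (LinearEquiv.ofInjective ev hev).length_eq
  have L2 : Module.length R (↥I →ₗ[R] R ⧸ J) = Module.length R (R ⧸ J) + Module.length R C := by
    have e1 := Module.length_eq_add_of_exact (LinearMap.ker ψ).subtype ψ.rangeRestrict (Submodule.injective_subtype _)
      (LinearMap.surjective_rangeRestrict _) (by
        rw [LinearMap.exact_iff, Submodule.range_subtype, LinearMap.ker_rangeRestrict])
    have e2 := Module.length_eq_add_of_exact (LinearMap.range ψ).subtype (LinearMap.range ψ).mkQ
      (Submodule.injective_subtype _) (Submodule.mkQ_surjective _) (LinearMap.exact_subtype_mkQ _)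
    have hl : ∀ k : ℕ, Module.length R (Fin k → R ⧸ J) = k * Module.length R (R ⧸ J) := fun k => by
      rw [Module.length_pi]; simp
    rw [L1]
    rw [hl] at e1
    rw [hl] at e2
    have hne : Module.length R (LinearMap.range ψ) ≠ ⊤ := Module.length_ne_top
    have hne' : Module.length R C ≠ ⊤ := Module.length_ne_top
    have hne'' : Module.length R (LinearMap.ker ψ) ≠ ⊤ := Module.length_ne_top
    obtain ⟨l, hl'⟩ := ENat.ne_top_iff_exists.1 hJ.ne
    obtain ⟨r, hr⟩ := ENat.ne_top_iff_exists.1 hne
    obtain ⟨c, hc⟩ := ENat.ne_top_iff_exists.1 hne'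
    obtain ⟨k, hk⟩ := ENat.ne_top_iff_exists.1 hne''
    rw [← hl', ← hr, ← hk] at e1
    rw [← hl', ← hr] at e2
    change _ = _ + Module.length R C at e2
    rw [← hc] at e2 ⊢
    rw [← hl', ← hk]
    norm_cast at e1 e2 ⊢
    rw [add_mul, one_mul] at e1
    omega
  -- step 2: the cokernel `C`, through its dual
  have hCK : ∀ z ∈ K, ∀ c : C, z • c = 0 := by
    intro z hz c
    induction c using Submodule.Quotient.induction_on with
    | _ v =>
      rw [← Submodule.Quotient.mk_smul]
      refine (Submodule.Quotient.mk_eq_zero _).2 ?_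
      have : z • v = 0 := funext fun i => by
        obtain ⟨r, hr⟩ := Ideal.Quotient.mk_surjective (v i)
        rw [Pi.smul_apply, ← hr]
        show Ideal.Quotient.mk J (z * r) = 0
        exact Ideal.Quotient.eq_zero_iff_mem.2 (J.mul_mem_right _ (hKJ hz))
      rw [this]; exact Submodule.zero_mem _
  have LC : Module.length R (C →ₗ[R] R ⧸ K) = Module.length R C :=
    length_hom_quot K hsoc C hCK Module.length_ne_top
  -- the generator `v₀`
  obtain ⟨p, hp⟩ := hε ⟨b, hbI⟩
  obtain ⟨q, hq⟩ := hε ⟨-a, I.neg_mem haI⟩
  obtain ⟨v₁, hv₁⟩ : a • p + b • q ∈ LinearMap.range φ := by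
    rw [hrange, LinearMap.mem_ker, map_add, map_smul, map_smul, hp, hq]
    ext
    simp only [Submodule.coe_add, Submodule.coe_smul, smul_eq_mul, Submodule.coe_zero]
    ring
  let v₀ : Fin n → R ⧸ K := fun i => Ideal.Quotient.mk K (v₁ i)
  have hKmk : ∀ x y : R, Ideal.Quotient.mk K (a * x + b * y) = 0 := fun x y =>
    Ideal.Quotient.eq_zero_iff_mem.2 (K.add_mem (K.mul_mem_right _ (Ideal.subset_span (by simp)))
      (K.mul_mem_right _ (Ideal.subset_span (by simp))))
  have hv₀ : ∀ j, ∑ i, A i j • v₀ i = 0 := fun j => by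
    have : ∑ i, A i j • v₀ i = Ideal.Quotient.mk K (φ v₁ j) := by
      rw [map_eq_sum φ v₁ j, map_sum]
      exact Finset.sum_congr rfl fun i _ => rfl
    rw [this, hv₁]
    exact hKmk _ _
  have hmemK : ∀ z : R, z ∈ K → ∃ x y : R, z = a * x + b * y := fun z hz => by
    obtain ⟨x, y, hxy⟩ := Ideal.mem_span_pair.1 hz
    exact ⟨x, y, by rw [← hxy]; ring⟩
  have hker : ∀ s : R, s • v₀ = 0 ↔ s ∈ I := by
    intro s
    constructor
    · intro hs
      have : ∀ i, ∃ x y : R, s * v₁ i = a * x + b * y := fun i =>
        hmemK _ (Ideal.Quotient.eq_zero_iff_mem.1 (congrFun hs i))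
      choose x y hxy using this
      have hsum : s • v₁ = a • x + b • y := funext hxy
      have h1 : a • (s • p - φ x) + b • (s • q - φ y) = 0 := by
        have h2 := congrArg φ hsum
        rw [map_smul, map_add, map_smul, map_smul, hv₁] at h2
        rw [smul_sub, smul_sub, smul_comm a s p, smul_comm b s q]
        rw [smul_add] at h2
        rw [sub_add_sub_comm, h2, sub_self]
      have h3 : ∀ j, ∃ e, (s • p - φ x) j = b * e := fun j => by
        obtain ⟨e, he, -⟩ := hab _ _ (congrFun h1 j)
        exact ⟨e, he⟩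
      choose e he using h3
      have h4 : s • p - φ x = b • e := funext he
      have h5 := congrArg (fun g => ((ε g : I) : R)) h4
      simp only [map_sub, map_smul, hεφ, sub_zero, hp, Submodule.coe_smul, smul_eq_mul] at h5
      have hb0 : b ≠ 0 := by
        intro hb0
        obtain ⟨e', -, he'⟩ := hab 0 1 (by rw [hb0]; ring)
        have ha1 : IsUnit a := IsUnit.of_mul_eq_one (-e') (by linear_combination he'.symm)
        exact Ideal.Quotient.nontrivial_iff.1 (inferInstance : Nontrivial (R ⧸ K))
          (Ideal.eq_top_of_isUnit_mem K (Ideal.subset_span (by simp)) ha1)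
      have h6 : s = (ε e : R) := mul_left_cancel₀ hb0 (by rw [← h5]; ring)
      rw [h6]; exact (ε e).2
    · intro hs
      obtain ⟨e, he⟩ := hε ⟨s, hs⟩
      obtain ⟨x, hx⟩ : s • p - b • e ∈ LinearMap.range φ := by
        rw [hrange, LinearMap.mem_ker, map_sub, map_smul, map_smul, hp, he]
        ext
        simp only [Submodule.coe_sub, Submodule.coe_smul, smul_eq_mul, Submodule.coe_zero]
        ring
      obtain ⟨y, hy⟩ : s • q + a • e ∈ LinearMap.range φ := by
        rw [hrange, LinearMap.mem_ker, map_add, map_smul, map_smul, hq, he]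
        ext
        simp only [Submodule.coe_add, Submodule.coe_smul, smul_eq_mul, Submodule.coe_zero]
        ring
      have h7 : s • v₁ = a • x + b • y := hφ (by
        rw [map_smul, map_add, map_smul, map_smul, hv₁, hx, hy]
        module)
      funext i
      show Ideal.Quotient.mk K (s * v₁ i) = 0
      have := congrFun h7 i
      simp only [Pi.smul_apply, Pi.add_apply, smul_eq_mul] at this
      rw [this]; exact hKmk _ _
  have hgen : ∀ v : Fin n → R ⧸ K, (∀ j, ∑ i, A i j • v i = 0) → ∃ s : R, s • v₀ = v := by
    intro v hv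
    choose u hu using fun i => Ideal.Quotient.mk_surjective (v i)
    have h : ∀ j, ∃ x y : R, φ u j = a * x + b * y := fun j => by
      refine hmemK _ (Ideal.Quotient.eq_zero_iff_mem.1 ?_)
      rw [map_eq_sum φ u j, map_sum, ← hv j]
      exact Finset.sum_congr rfl fun i _ => by rw [← hu i]; rfl
    choose x y hxy using h
    have hsum : φ u = a • x + b • y := funext hxy
    have h1 : a * (ε x : R) + b * (ε y : R) = 0 := by
      have := congrArg (fun g => ((ε g : I) : R)) hsum
      simp only [hεφ, map_add, map_smul, Submodule.coe_add, Submodule.coe_smul, smul_eq_mul,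
        Submodule.coe_zero] at this
      exact this.symm
    obtain ⟨s, hs1, hs2⟩ := hab _ _ h1
    refine ⟨s, ?_⟩
    obtain ⟨x', hx'⟩ : x - s • p ∈ LinearMap.range φ := by
      rw [hrange, LinearMap.mem_ker, map_sub, map_smul, hp]
      ext
      simp only [Submodule.coe_sub, Submodule.coe_smul, smul_eq_mul, Submodule.coe_zero, hs1]
      ring
    obtain ⟨y', hy'⟩ : y - s • q ∈ LinearMap.range φ := by
      rw [hrange, LinearMap.mem_ker, map_sub, map_smul, hq]
      ext
      simp only [Submodule.coe_sub, Submodule.coe_smul, smul_eq_mul, Submodule.coe_zero, hs2]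
      ring
    have h7 : u = s • v₁ + (a • x' + b • y') := hφ (by
      rw [map_add, map_smul, map_add, map_smul, map_smul, hv₁, hx', hy', hsum]
      module)
    funext i
    rw [← hu i]
    show Ideal.Quotient.mk K (s * v₁ i) = Ideal.Quotient.mk K (u i)
    have := congrFun h7 i
    simp only [Pi.smul_apply, Pi.add_apply, smul_eq_mul] at this
    rw [this, map_add _ (s * v₁ i), hKmk, add_zero]
  -- `Hom(C, R/K) ≅ (I : J) / I`
  let π := (LinearMap.range ψ).mkQ
  let evC : (C →ₗ[R] R ⧸ K) →ₗ[R] (Fin n → R ⧸ K) :=
    { toFun := fun h i => h (π (Pi.single i 1))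
      map_add' := fun _ _ => rfl
      map_smul' := fun _ _ => rfl }
  have hsingle : ∀ (g : Fin n → R ⧸ J) (u : Fin n → R), (∀ i, Ideal.Quotient.mk J (u i) = g i) →
      g = ∑ i, u i • (Pi.single i (1 : R ⧸ J)) := fun g u hu => by
    funext k
    rw [Finset.sum_apply, Finset.sum_eq_single k]
    · rw [Pi.smul_apply, Pi.single_eq_same, ← hu k, Algebra.smul_def, mul_one]; rfl
    · intro i _ hik
      rw [Pi.smul_apply, Pi.single_eq_of_ne (Ne.symm hik), smul_zero]
    · intro h; exact absurd (Finset.mem_univ k) h
  have hevC : Function.Injective evC := by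
    intro h h' e
    apply LinearMap.ext
    intro c
    induction c using Submodule.Quotient.induction_on with
    | _ g =>
      choose u hu using fun i => Ideal.Quotient.mk_surjective (g i)
      rw [hsingle g u hu]
      show h (π _) = h' (π _)
      simp only [map_sum, map_smul]
      exact Finset.sum_congr rfl fun i _ => congrArg (u i • ·) (congrFun e i)
  let T : R →ₗ[R] (Fin n → R ⧸ K) := LinearMap.toSpanSingleton R _ v₀
  have hrgC : LinearMap.range evC = Submodule.map T (I.colon (J : Set R)) := by
    apply le_antisymm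
    · rintro _ ⟨h, rfl⟩
      obtain ⟨s, hs⟩ := hgen (evC h) fun j => by
        show ∑ i, A i j • h (π (Pi.single i 1)) = 0
        simp only [← map_smul, ← map_sum]
        have : ∑ i, A i j • (Pi.single i (1 : R ⧸ J)) = ψ (Pi.single j 1) := by
          rw [← hsingle (ψ (Pi.single j 1)) (fun i => A i j)]
          intro i
          rw [show ψ (Pi.single j 1) i = ∑ k, A i k • (Pi.single j (1 : R ⧸ J) : Fin (n+1) → R ⧸ J) k from
            mulMap_apply A (R ⧸ J) _ i, Finset.sum_eq_single j]
          · rw [Pi.single_eq_same, Algebra.smul_def, mul_one]; rfl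
          · intro k _ hk; rw [Pi.single_eq_of_ne hk, smul_zero]
          · intro h; exact absurd (Finset.mem_univ j) h
        rw [this, show π (ψ (Pi.single j 1)) = 0 from (Submodule.Quotient.mk_eq_zero _).2 ⟨_, rfl⟩, map_zero]
      refine ⟨s, Submodule.mem_colon.2 fun z hz => ?_, hs⟩
      rw [smul_eq_mul, mul_comm, ← hker]
      rw [mul_smul, hs]
      funext i
      show z • h (π (Pi.single i 1)) = 0
      rw [← map_smul, ← map_smul]
      have : z • (Pi.single i (1 : R ⧸ J) : Fin n → R ⧸ J) = 0 := by
        rw [← Pi.single_smul, show z • (1 : R ⧸ J) = 0 from by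
          rw [Algebra.smul_def, mul_one]; exact Ideal.Quotient.eq_zero_iff_mem.2 hz, Pi.single_zero]
      rw [this, map_zero, map_zero]
    · rintro _ ⟨s, hs, rfl⟩
      have hkill : ∀ i, J ≤ LinearMap.ker (LinearMap.toSpanSingleton R (R ⧸ K) (s • v₀ i)) := fun i z hz => by
        show z • (s • v₀ i) = 0
        have h := (hker (z * s)).2 (by rw [mul_comm]; exact Submodule.mem_colon.1 hs z hz)
        rw [smul_smul]
        exact congrFun h i
      let L : (Fin n → R ⧸ J) →ₗ[R] R ⧸ K :=
        ∑ i, (Submodule.liftQ J (LinearMap.toSpanSingleton R (R ⧸ K) (s • v₀ i)) (hkill i)) ∘ₗ LinearMap.proj i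
      have hL : LinearMap.range ψ ≤ LinearMap.ker L := by
        rintro _ ⟨g, rfl⟩
        choose r hr using fun j => Submodule.Quotient.mk_surjective J (g j)
        show L (ψ g) = 0
        simp only [L, LinearMap.sum_apply, LinearMap.comp_apply, LinearMap.proj_apply]
        simp only [ψ, mulMap_apply, ← hr, map_sum, map_smul]
        rw [Finset.sum_comm]
        refine Finset.sum_eq_zero fun j _ => ?_
        calc ∑ i, A i j • (Submodule.liftQ J (LinearMap.toSpanSingleton R (R ⧸ K) (s • v₀ i)) (hkill i))
              (Submodule.Quotient.mk (r j)) = ∑ i, (r j * s) • (A i j • v₀ i) :=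
              Finset.sum_congr rfl fun i _ => by
                rw [Submodule.liftQ_apply, LinearMap.toSpanSingleton_apply, smul_smul, smul_smul, smul_smul]
                congr 1; ring
          _ = 0 := by rw [← Finset.smul_sum, hv₀ j, smul_zero]
      refine ⟨(LinearMap.range ψ).liftQ L hL, ?_⟩
      funext i
      show L (Pi.single i 1) = s • v₀ i
      simp only [L, LinearMap.sum_apply, LinearMap.comp_apply, LinearMap.proj_apply]
      rw [Finset.sum_eq_single i]
      · rw [Pi.single_eq_same]
        show Submodule.liftQ J _ _ (Submodule.Quotient.mk (1 : R)) = _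
        rw [Submodule.liftQ_apply, LinearMap.toSpanSingleton_apply, one_smul]
      · intro k _ hk; rw [Pi.single_eq_of_ne hk, map_zero]
      · intro h; exact absurd (Finset.mem_univ i) h
  have hIc : I ≤ I.colon (J : Set R) := fun s hs => Submodule.mem_colon.2 fun z _ => I.mul_mem_right _ hs
  have hTker : LinearMap.ker T = I := by
    ext s; exact hker s
  have L3 : Module.length R C + Module.length R (R ⧸ I.colon (J : Set R)) = Module.length R (R ⧸ I) := by
    let L' := I.liftQ T hTker.ge
    have hL' : Function.Injective L' := LinearMap.ker_eq_bot.1 (Submodule.ker_liftQ_eq_bot _ _ _ hTker.le)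
    have hmap : Submodule.map T (I.colon (J : Set R)) = Submodule.map L' (Submodule.map I.mkQ (I.colon (J : Set R))) := by
      rw [← Submodule.map_comp]; rfl
    rw [← LC, (LinearEquiv.ofInjective evC hevC).length_eq, hrgC, hmap,
      ← (Submodule.equivMapOfInjective L' hL' _).length_eq,
      Module.length_eq_add_of_exact (Submodule.map I.mkQ (I.colon (J : Set R))).subtype (Submodule.mkQ _)
        (Submodule.injective_subtype _) (Submodule.mkQ_surjective _) (LinearMap.exact_subtype_mkQ _),
      (Submodule.quotientQuotientEquivQuotient I (I.colon (J : Set R)) hIc).length_eq]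
  rw [L2, add_assoc, L3]

end HomColLib
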