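import Mathlib
import Groth.Agent.GorLib.Socle

/-! # Duality of lengths over an Artinian self-injective local ring, and linear maps given by matrices -/

set_option autoImplicit false
universe u

namespace HomColLib

open IsLocalRing

theorem dual_eval_injective {Q : Type u} [CommRing Q] [IsLocalRing Q] (hinj : Module.Injective Q Q)
    (hs : GorLib.SocCyclic Q) (X : Type u) [AddCommGroup X] [Module Q X] :
    Function.Injective (Module.Dual.eval Q X) := by
  obtain ⟨s, hs0, hsm, -⟩ := hs
  rw [injective_iff_map_eq_zero]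
  intro c hc
  by_contra h0
  let t : Q →ₗ[Q] X := LinearMap.toSpanSingleton Q X c
  have hker : LinearMap.ker t ≤ LinearMap.ker (LinearMap.toSpanSingleton Q Q s) := by
    intro a ha
    have ha' : a • c = 0 := ha
    refine hsm a ?_
    by_contra hu
    have hunit : IsUnit a := by
      rwa [IsLocalRing.mem_maximalIdeal, mem_nonunits_iff, not_not] at hu
    obtain ⟨b, hb⟩ := hunit.exists_left_inv
    exact h0 (by rw [← one_smul Q c, ← hb, mul_smul, ha', smul_zero])
  let i : (Q ⧸ LinearMap.ker t) →ₗ[Q] X := (LinearMap.ker t).liftQ t le_rfl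
  have hi : Function.Injective i := LinearMap.ker_eq_bot.1 (Submodule.ker_liftQ_eq_bot _ _ _ le_rfl)
  obtain ⟨h, hh⟩ := hinj.out i hi ((LinearMap.ker t).liftQ (LinearMap.toSpanSingleton Q Q s) hker)
  have h1 := hh (Submodule.Quotient.mk 1)
  simp only [i, t, Submodule.liftQ_apply, LinearMap.toSpanSingleton_apply, one_smul] at h1
  exact hs0 (h1.symm.trans (LinearMap.congr_fun hc h))

theorem length_dual_eq {Q : Type u} [CommRing Q] [IsLocalRing Q] [IsArtinianRing Q] (hs : GorLib.SocCyclic Q)
    (X : Type u) [AddCommGroup X] [Module Q X] (hX : IsFiniteLength Q X) :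
    Module.length Q (X →ₗ[Q] Q) = Module.length Q X := by
  refine le_antisymm (GorLib.length_dual_le hs hX) ?_
  have hfin : IsFiniteLength Q (X →ₗ[Q] Q) :=
    Module.length_ne_top_iff.1 (ne_top_of_le_ne_top (Module.length_ne_top_iff.2 hX) (GorLib.length_dual_le hs hX))
  exact (Module.length_le_of_injective (Module.Dual.eval Q X)
    (dual_eval_injective (GorLib.injective_of_socCyclic hs) hs X)).trans (GorLib.length_dual_le hs hfin)

theorem length_hom_quot {R : Type u} [CommRing R] (K : Ideal R) [IsLocalRing (R ⧸ K)] [IsArtinianRing (R ⧸ K)]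
    (hs : GorLib.SocCyclic (R ⧸ K)) (X : Type u) [AddCommGroup X] [Module R X]
    (hK : ∀ a ∈ K, ∀ x : X, a • x = 0) (hX : Module.length R X ≠ ⊤) :
    Module.length R (X →ₗ[R] R ⧸ K) = Module.length R X := by
  have ht : Module.IsTorsionBySet R X K := fun x a => hK a a.2 x
  letI : Module (R ⧸ K) X := ht.module
  haveI : IsScalarTower R (R ⧸ K) X := ht.isScalarTower
  have hsurj : Function.Surjective (algebraMap R (R ⧸ K)) := Ideal.Quotient.mk_surjective
  have e1 : Module.length R X = Module.length (R ⧸ K) X := Module.length_eq_of_surjective hsurj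
  rw [(LinearMap.extendScalarsOfSurjectiveEquiv (M := X) (N := R ⧸ K) hsurj).length_eq,
    Module.length_eq_of_surjective (R := R ⧸ K) hsurj, e1]
  exact length_dual_eq hs X (Module.length_ne_top_iff.1 (e1 ▸ hX))

section Matrix

variable {R : Type u} [CommRing R] {n m : ℕ}

/-- The map `N^m → N^n` given by a matrix. -/
def mulMap (A : Fin n → Fin m → R) (N : Type u) [AddCommGroup N] [Module R N] :
    (Fin m → N) →ₗ[R] (Fin n → N) where
  toFun g := fun i => ∑ j, A i j • g j
  map_add' g h := by
    funext i
    simp only [Pi.add_apply, smul_add, Finset.sum_add_distrib]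
  map_smul' c g := by
    funext i
    simp only [Pi.smul_apply, RingHom.id_apply, Finset.smul_sum]
    exact Finset.sum_congr rfl fun j _ => smul_comm _ _ _

theorem mulMap_apply (A : Fin n → Fin m → R) (N : Type u) [AddCommGroup N] [Module R N] (g : Fin m → N)
    (i : Fin n) : mulMap A N g i = ∑ j, A i j • g j := rfl

theorem map_eq_sum (φ : (Fin n → R) →ₗ[R] (Fin m → R)) (v : Fin n → R) (j : Fin m) :
    φ v j = ∑ i, φ (Pi.single i 1) j * v i := by
  conv_lhs => rw [pi_eq_sum_univ' v]
  rw [map_sum, Finset.sum_apply]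
  refine Finset.sum_congr rfl fun i _ => ?_
  rw [map_smul, Pi.smul_apply, smul_eq_mul, mul_comm]

end Matrix

end HomColLib
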