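import Groth.Agent.HomColLib.Dual
import Groth.Agent.GorLib.RegSeq
import Groth.Agent.S0342
import Groth.Agent.CommAlgDim.GlobalDim
import Groth.Agent.CommAlgDim.CM
import Groth.Agent.InjHullLib.Local

/-! # `length Hom(I, R/J)` for ideals of finite colength in a two-dimensional regular local ring -/

set_option autoImplicit false
universe u

namespace HomColLib

open IsLocalRing CommAlgDim

variable {R : Type u} [CommRing R]

theorem exists_pow_le [IsLocalRing R] {I : Ideal R} (hI : Module.length R (R ⧸ I) < ⊤) :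
    ∃ N : ℕ, maximalIdeal R ^ N ≤ I := by
  obtain ⟨N, hN⟩ := InjHullLib.exists_pow_smul_eq_zero (Module.length_ne_top_iff.1 hI.ne)
  refine ⟨N, fun a ha => Ideal.Quotient.eq_zero_iff_mem.1 ?_⟩
  have h := hN a ha 1
  simpa [Algebra.smul_def] using h

/-- A regular sequence `a, b` in any power of the maximal ideal, with Artinian Gorenstein quotient. -/
theorem exists_regular_pair [IsRegularLocalRing R] (hdim : ringKrullDim R = 2) (N : ℕ) :
    ∃ a b : R, a ∈ maximalIdeal R ^ N ∧ b ∈ maximalIdeal R ^ N ∧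
      (∀ p q : R, a * p + b * q = 0 → ∃ e, p = b * e ∧ q = -(a * e)) ∧
      ∃ _ : IsLocalRing (R ⧸ Ideal.span {a, b}), IsArtinianRing (R ⧸ Ideal.span {a, b}) ∧
        GorLib.SocCyclic (R ⧸ Ideal.span {a, b}) := by
  classical
  have hrk : (maximalIdeal R).spanFinrank = 2 := by
    have h := ((IsRegularLocalRing.iff_finrank_cotangentSpace R).1 ‹_›)
    rw [hdim, ← IsLocalRing.spanFinrank_maximalIdeal_eq_finrank_cotangentSpace] at h
    exact_mod_cast h
  obtain ⟨t, ht, htm⟩ := Submodule.FG.exists_span_finset_card_eq_spanFinrank (IsNoetherian.noetherian (maximalIdeal R))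
  rw [hrk, Finset.card_eq_two] at ht
  obtain ⟨x, y, -, rfl⟩ := ht
  rw [Ideal.submodule_span_eq, Finset.coe_pair] at htm
  set n := N + 1 with hn
  have hxm : x ∈ maximalIdeal R := htm ▸ Ideal.subset_span (by simp)
  have hym : y ∈ maximalIdeal R := htm ▸ Ideal.subset_span (by simp)
  have hxn : x ^ n ∈ maximalIdeal R ^ N := Ideal.pow_le_pow_right (Nat.le_succ N) (Ideal.pow_mem_pow hxm n)
  have hyn : y ^ n ∈ maximalIdeal R ^ N := Ideal.pow_le_pow_right (Nat.le_succ N) (Ideal.pow_mem_pow hym n)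
  have hxn' : x ^ n ∈ maximalIdeal R := Ideal.pow_mem_of_mem _ hxm n (Nat.succ_pos N)
  have hyn' : y ^ n ∈ maximalIdeal R := Ideal.pow_mem_of_mem _ hym n (Nat.succ_pos N)
  set K := Ideal.span ({x ^ n, y ^ n} : Set R) with hK
  have hKm : K ≤ maximalIdeal R := Ideal.span_le.2 (by
    intro z hz
    rcases hz with rfl | rfl
    exacts [hxn', hyn'])
  haveI : Nontrivial (R ⧸ K) :=
    Ideal.Quotient.nontrivial_iff.2 (ne_top_of_le_ne_top (Ideal.IsMaximal.ne_top inferInstance) hKm)
  haveI hloc : IsLocalRing (R ⧸ K) := IsLocalRing.of_surjective' (Ideal.Quotient.mk _) Ideal.Quotient.mk_surjective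
  have hpow : maximalIdeal R ^ (n + n) ≤ K := by
    rw [← htm, Ideal.span_insert]
    refine (Ideal.sup_pow_add_le_pow_sup_pow).trans ?_
    rw [Ideal.span_singleton_pow, Ideal.span_singleton_pow, hK, Ideal.span_insert]
  haveI hart : IsArtinianRing (R ⧸ K) := by
    rw [isArtinianRing_iff_isNilpotent_maximalIdeal]
    refine ⟨n + n, ?_⟩
    rw [← IsLocalRing.map_maximalIdeal_of_surjective (Ideal.Quotient.mk K) Ideal.Quotient.mk_surjective,
      ← Ideal.map_pow, Ideal.zero_eq_bot, Ideal.map_eq_bot_iff_le_ker, Ideal.mk_ker]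
    exact hpow
  have hlist : Ideal.ofList [x ^ n, y ^ n] = K := by
    rw [hK]
    unfold Ideal.ofList
    congr 1
    ext z
    simp
  have hd0 : ringKrullDim (R ⧸ K) = 0 := by
    refine le_antisymm ?_ ringKrullDim_nonneg_of_nontrivial
    haveI : Ring.KrullDimLE 0 (R ⧸ K) := (isArtinianRing_iff_krullDimLE_zero.1 hart)
    exact_mod_cast (Ring.krullDimLE_iff.1 this)
  have hreg : RingTheory.Sequence.IsRegular R [x ^ n, y ^ n] := by
    refine isRegular_of_dim (isCM_of_isRegularLocalRing R) (fun r hr => ?_) ?_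
    · rcases List.mem_cons.1 hr with rfl | hr
      · exact hxn'
      · rw [List.mem_singleton.1 hr]; exact hyn'
    · rw [hlist, hd0, hdim, zero_add]
      exact le_of_eq (by norm_num)
  have hgor : LocCoh.IsGorensteinLocalRing (R ⧸ K) := by
    refine GorLib.gorenstein_of_ringEquiv (Ideal.quotEquivOfEq hlist.symm) ((GorLib.gorenstein_quotient_ofList_iff 2 R
      [x ^ n, y ^ n] rfl hreg.toIsWeaklyRegular fun r hr => ?_).1 (Groth.Agent.S0342.result R))
    rcases List.mem_cons.1 hr with rfl | hr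
    · exact hxn'
    · rw [List.mem_singleton.1 hr]; exact hyn'
  refine ⟨x ^ n, y ^ n, hxn, hyn, ?_, hloc, hart, GorLib.gorenstein_iff_socCyclic.1 hgor⟩
  rw [isRegular_cons_ring] at hreg
  obtain ⟨ha, hb⟩ := hreg
  have hb' : IsSMulRegular (R ⧸ Ideal.span {x ^ n}) (Ideal.Quotient.mk (Ideal.span {x ^ n}) (y ^ n)) := by
    rw [List.map_cons, isRegular_cons_ring] at hb
    exact hb.1
  intro p q hpq
  have hq : Ideal.Quotient.mk (Ideal.span {x ^ n}) q = 0 := by
    refine hb' ?_
    simp only [smul_eq_mul, mul_zero, ← map_mul]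
    rw [Ideal.Quotient.eq_zero_iff_mem, Ideal.mem_span_singleton']
    exact ⟨-p, by linear_combination hpq.symm⟩
  rw [Ideal.Quotient.eq_zero_iff_mem, Ideal.mem_span_singleton'] at hq
  obtain ⟨e, he⟩ := hq
  refine ⟨-e, ha ?_, by rw [← he]; ring⟩
  simp only [smul_eq_mul]
  linear_combination hpq + (y ^ n) * he

/-- A presentation `0 → R^n → R^(n+1) → I → 0` of a nonzero ideal. -/
theorem exists_presentation [IsRegularLocalRing R] (hdim : ringKrullDim R = 2) (I : Ideal R) (hI : I ≠ ⊥) :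
    ∃ (n : ℕ) (ε : (Fin (n + 1) → R) →ₗ[R] I) (φ : (Fin n → R) →ₗ[R] (Fin (n + 1) → R)),
      Function.Surjective ε ∧ Function.Injective φ ∧ LinearMap.range φ = LinearMap.ker ε := by
  haveI : IsDomain R := isDomain_of_isRegularLocalRing R
  obtain ⟨m, ε, hε⟩ := Module.Finite.exists_fin' R I
  have hrk : (maximalIdeal R).spanFinrank = 2 := by
    have h := ((IsRegularLocalRing.iff_finrank_cotangentSpace R).1 ‹_›)
    rw [hdim, ← IsLocalRing.spanFinrank_maximalIdeal_eq_finrank_cotangentSpace] at h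
    exact_mod_cast h
  have h3 : PDLT R (R ⧸ I) 3 := by
    have h := pdlt_of_isRegularLocalRing R (R ⧸ I)
    rwa [hrk] at h
  have h2 : PDLT R I 2 := ((pdlt_ker_iff I.mkQ (Submodule.mkQ_surjective I) 1).1 h3).of_equiv
    (LinearEquiv.ofEq _ _ (Submodule.ker_mkQ I))
  have h1 : Module.Projective R (LinearMap.ker ε) := pdlt_one_iff.1 ((pdlt_ker_iff ε hε 0).1 h2)
  haveI := h1
  haveI : Module.Free R (LinearMap.ker ε) := Module.free_of_flat_of_isLocalRing
  have hI1 : Module.finrank R I = 1 := by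
    refine le_antisymm ((Submodule.finrank_le I).trans (Module.finrank_self R).le) ?_
    obtain ⟨z, hz, hz0⟩ := Submodule.exists_mem_ne_zero_of_ne_bot hI
    haveI : Nontrivial I := ⟨⟨⟨z, hz⟩, 0, fun h => hz0 (congrArg Subtype.val h)⟩⟩
    exact Module.finrank_pos
  have hsum := Submodule.finrank_quotient_add_finrank (LinearMap.ker ε)
  rw [(ε.quotKerEquivOfSurjective hε).finrank_eq, hI1, Module.finrank_fin_fun] at hsum
  obtain ⟨n, rfl⟩ : ∃ n, m = n + 1 := ⟨m - 1, by omega⟩
  have hn : Module.finrank R (LinearMap.ker ε) = n := by omega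
  let B := (Module.finBasisOfFinrankEq R (LinearMap.ker ε) hn).equivFun.symm
  refine ⟨n, ε, (LinearMap.ker ε).subtype ∘ₗ B.toLinearMap, hε,
    (Submodule.injective_subtype _).comp B.injective, ?_⟩
  rw [LinearMap.range_comp, LinearEquiv.range, Submodule.map_top, Submodule.range_subtype]

end HomColLib
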